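import Groth.Prelude.Def_RelSpec
import Groth.Agent.Lib.SymAlg.Exists

/-!
# Morphisms of quasi-coherent algebras from their values on affine opens
-/

set_option autoImplicit false
universe u

open CategoryTheory AlgebraicGeometry TopologicalSpace Opposite

namespace Groth.Agent.H81.RelSpec.AffineHom

noncomputable section

variable {S : Scheme.{u}} {A B : RelSpec.QCAlg S}

theorem hom_ext {ψ ψ' : A ⟶ B}
    (h : ∀ (U : S.Opens), IsAffineOpen U → ψ.hom.app (op U) = ψ'.hom.app (op U)) : ψ = ψ' := by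
  apply RelSpec.QCAlg.hom_ext
  apply (Functor.IsCoverDense.restrictHomEquivHom (G := Scheme.AffineZariskiSite.toOpensFunctor S)
    (K := Opens.grothendieckTopology S) (ℱ := A.presheaf)
    (ℱ' := (⟨B.presheaf, B.isSheaf⟩ : TopCat.Sheaf CommRingCat.{u} S.carrier))).symm.injective
  ext U : 2
  exact h U.unop.1 U.unop.2

variable (A B) in
theorem exists_hom (F : ∀ (U : S.Opens), IsAffineOpen U → (A.presheaf.obj (op U) →+* B.presheaf.obj (op U)))
    (hres : ∀ (U V : S.Opens) (hU : IsAffineOpen U) (hV : IsAffineOpen V) (i : V ≤ U) (a : A.presheaf.obj (op U)),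
      F V hV ((A.presheaf.map (homOfLE i).op).hom a) = (B.presheaf.map (homOfLE i).op).hom (F U hU a))
    (hstr : ∀ (U : S.Opens) (hU : IsAffineOpen U) (r : Γ(S, U)),
      F U hU ((A.str.app (op U)).hom r) = (B.str.app (op U)).hom r) :
    ∃ ψ : A ⟶ B, ∀ (U : S.Opens) (hU : IsAffineOpen U), (ψ.hom.app (op U)).hom = F U hU := by
  let site : (Scheme.AffineZariskiSite.toOpensFunctor S).op ⋙ A.presheaf ⟶
      (Scheme.AffineZariskiSite.toOpensFunctor S).op ⋙ B.presheaf :=
    { app := fun U => CommRingCat.ofHom (F U.unop.1 U.unop.2)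
      naturality := fun U V i => CommRingCat.hom_ext (RingHom.ext fun a =>
        hres U.unop.1 V.unop.1 U.unop.2 V.unop.2 _ a) }
  let EqA := Functor.IsCoverDense.restrictHomEquivHom (G := Scheme.AffineZariskiSite.toOpensFunctor S)
    (K := Opens.grothendieckTopology S) (ℱ := A.presheaf)
    (ℱ' := (⟨B.presheaf, B.isSheaf⟩ : TopCat.Sheaf CommRingCat.{u} S.carrier))
  have happ : ∀ (U : S.Opens) (hU : IsAffineOpen U), (EqA site).app (op U) = CommRingCat.ofHom (F U hU) :=
    fun U hU => NatTrans.congr_app (EqA.symm_apply_apply site) (op ⟨U, hU⟩)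
  have hcomm : A.str ≫ EqA site = B.str := by
    apply (Functor.IsCoverDense.restrictHomEquivHom (G := Scheme.AffineZariskiSite.toOpensFunctor S)
      (K := Opens.grothendieckTopology S) (ℱ := S.presheaf)
      (ℱ' := (⟨B.presheaf, B.isSheaf⟩ : TopCat.Sheaf CommRingCat.{u} S.carrier))).symm.injective
    ext U : 2
    refine CommRingCat.hom_ext (RingHom.ext fun r => ?_)
    change ((EqA site).app (op U.unop.1)).hom ((A.str.app (op U.unop.1)).hom r) = _
    rw [happ U.unop.1 U.unop.2]
    exact hstr U.unop.1 U.unop.2 r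
  exact ⟨⟨EqA site, hcomm⟩, fun U hU => congrArg CommRingCat.Hom.hom (happ U hU)⟩

end

end Groth.Agent.H81.RelSpec.AffineHom
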